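import Cfsg.Agent.SporB.He.Cen.Defs
import Cfsg.Agent.SporB.SL5Transvection

/-!
Packed five by five matrices over the field with two elements.
-/

set_option autoImplicit false
set_option maxRecDepth 100000

namespace Cfsg.Agent.CosetEnum.He.Cen

/-- A bit as a field element. -/
def toF (b : Bool) : ZMod 2 := bif b then 1 else 0

theorem toF_xor : ∀ a b : Bool, toF (a ^^ b) = toF a + toF b := by decide

theorem toF_inj : ∀ a b : Bool, toF a = toF b → a = b := by decide

/-- The matrix of a code. -/
def mat (c : ℕ) : Matrix (Fin 5) (Fin 5) (ZMod 2) := fun i j => toF ((row c i).testBit j)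

/-- The matrix of five rows. -/
def rowsMat (rs : List ℕ) : Matrix (Fin 5) (Fin 5) (ZMod 2) :=
  fun i j => toF ((rs.getD i 0).testBit j)

theorem rowSum_bit (g c j : ℕ) : ∀ n, toF ((rowSum g c n).testBit j) =
    ∑ k ∈ Finset.range n, toF (g.testBit k) * toF ((row c k).testBit j)
  | 0 => by simp [rowSum, toF]
  | n + 1 => by
    rw [Finset.sum_range_succ, ← rowSum_bit g c j n, rowSum]
    cases g.testBit n with
    | false => simp [toF]
    | true =>
      show toF ((rowSum g c n ^^^ row c n).testBit j) = _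
      rw [Nat.testBit_xor, toF_xor]
      simp [toF]

theorem mat_mul {rs : List ℕ} {c d : ℕ}
    (h : ∀ i < 5, row d i = rowSum (rs.getD i 0) c 5) : mat d = rowsMat rs * mat c := by
  ext i j
  show toF ((row d i).testBit j) = _
  rw [h i i.2, rowSum_bit, Matrix.mul_apply,
    ← Fin.sum_univ_eq_sum_range (fun k => toF ((rs.getD i 0).testBit k) * toF ((row c k).testBit j)) 5]
  rfl

theorem row_lt (c i : ℕ) : row c i < 32 := by
  have : row c i = (c >>> (5 * i)) &&& 31 := rfl
  have h := @Nat.and_le_right (c >>> (5 * i)) 31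
  omega

theorem key_of_mat {c d : ℕ} (h : mat c = mat d) : key c = key d := by
  have hrow : ∀ i < 5, row c i = row d i := by
    intro i hi
    apply Nat.eq_of_testBit_eq
    intro j
    rcases Nat.lt_or_ge j 5 with hj | hj
    · exact toF_inj _ _ (congrFun (congrFun h ⟨i, hi⟩) ⟨j, hj⟩)
    · have h2 : 32 ≤ 2 ^ j := (show 2 ^ 5 ≤ 2 ^ j from Nat.pow_le_pow_right (by norm_num) hj)
      rw [Nat.testBit_lt_two_pow ((row_lt c i).trans_le h2),
        Nat.testBit_lt_two_pow ((row_lt d i).trans_le h2)]
  simp [key, hrow 0 (by omega), hrow 1 (by omega), hrow 2 (by omega), hrow 3 (by omega),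
    hrow 4 (by omega)]

theorem det_rowsU : (rowsMat rowsU).det = 1 := by decide +kernel

theorem det_rowsV : (rowsMat rowsV).det = 1 := by decide +kernel

/-- The first generator. -/
def su : Matrix.SpecialLinearGroup (Fin 5) (ZMod 2) := ⟨rowsMat rowsU, det_rowsU⟩

/-- The second generator. -/
def sv : Matrix.SpecialLinearGroup (Fin 5) (ZMod 2) := ⟨rowsMat rowsV, det_rowsV⟩

theorem comm_ok : rowsMat rowsU * Matrix.transvection 0 1 1 = Matrix.transvection 0 1 1 * rowsMat rowsU ∧
    rowsMat rowsV * Matrix.transvection 0 1 1 = Matrix.transvection 0 1 1 * rowsMat rowsV := by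
  decide +kernel

end Cfsg.Agent.CosetEnum.He.Cen
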