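import Cfsg.Agent.SporB.He.Cen.Defs

set_option autoImplicit false
set_option maxRecDepth 100000

namespace Cfsg.Agent.CosetEnum.He.Cen

theorem node_11 : allRange nodeCheck 5632 512 = true := by decide +kernel

theorem node_12 : allRange nodeCheck 6144 512 = true := by decide +kernel

theorem node_13 : allRange nodeCheck 6656 512 = true := by decide +kernel

theorem node_14 : allRange nodeCheck 7168 512 = true := by decide +kernel

theorem node_15 : allRange nodeCheck 7680 512 = true := by decide +kernel

theorem node_16 : allRange nodeCheck 8192 512 = true := by decide +kernel

theorem node_17 : allRange nodeCheck 8704 512 = true := by decide +kernel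

theorem node_18 : allRange nodeCheck 9216 512 = true := by decide +kernel

theorem node_19 : allRange nodeCheck 9728 512 = true := by decide +kernel

theorem node_20 : allRange nodeCheck 10240 512 = true := by decide +kernel

theorem node_21 : allRange nodeCheck 10752 512 = true := by decide +kernel

end Cfsg.Agent.CosetEnum.He.Cen
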