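import Cfsg.Agent.SporB.He.Cen.Defs

set_option autoImplicit false
set_option maxRecDepth 100000

namespace Cfsg.Agent.CosetEnum.He.Cen

theorem node_22 : allRange nodeCheck 11264 512 = true := by decide +kernel

theorem node_23 : allRange nodeCheck 11776 512 = true := by decide +kernel

theorem node_24 : allRange nodeCheck 12288 512 = true := by decide +kernel

theorem node_25 : allRange nodeCheck 12800 512 = true := by decide +kernel

theorem node_26 : allRange nodeCheck 13312 512 = true := by decide +kernel

theorem node_27 : allRange nodeCheck 13824 512 = true := by decide +kernel

theorem node_28 : allRange nodeCheck 14336 512 = true := by decide +kernel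

theorem node_29 : allRange nodeCheck 14848 512 = true := by decide +kernel

theorem node_30 : allRange nodeCheck 15360 512 = true := by decide +kernel

theorem node_31 : allRange nodeCheck 15872 512 = true := by decide +kernel

theorem node_32 : allRange nodeCheck 16384 512 = true := by decide +kernel

end Cfsg.Agent.CosetEnum.He.Cen
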