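import Cfsg.Agent.SporB.He.Cen.Defs

set_option autoImplicit false
set_option maxRecDepth 100000

namespace Cfsg.Agent.CosetEnum.He.Cen

theorem node_33 : allRange nodeCheck 16896 512 = true := by decide +kernel

theorem node_34 : allRange nodeCheck 17408 512 = true := by decide +kernel

theorem node_35 : allRange nodeCheck 17920 512 = true := by decide +kernel

theorem node_36 : allRange nodeCheck 18432 512 = true := by decide +kernel

theorem node_37 : allRange nodeCheck 18944 512 = true := by decide +kernel

theorem node_38 : allRange nodeCheck 19456 512 = true := by decide +kernel

theorem node_39 : allRange nodeCheck 19968 512 = true := by decide +kernel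

theorem node_40 : allRange nodeCheck 20480 512 = true := by decide +kernel

theorem node_41 : allRange nodeCheck 20992 512 = true := by decide +kernel

end Cfsg.Agent.CosetEnum.He.Cen
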