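import Cfsg.Agent.SporB.He.Cen.Node0
import Cfsg.Agent.SporB.He.Cen.Node1
import Cfsg.Agent.SporB.He.Cen.Node2
import Cfsg.Agent.SporB.He.Cen.Node3

set_option autoImplicit false

namespace Cfsg.Agent.CosetEnum.He.Cen

theorem node : ∀ i < 21504, nodeCheck i = true := by
  intro i hi
  rcases Nat.lt_or_ge i 10752 with h | h
  ·
    rcases Nat.lt_or_ge i 5120 with h | h
    ·
      rcases Nat.lt_or_ge i 2560 with h | h
      ·
        rcases Nat.lt_or_ge i 1024 with h | h
        ·
          rcases Nat.lt_or_ge i 512 with h | h
          ·
            exact allRange_spec node_0 i (by omega) (by omega)
          ·
            exact allRange_spec node_1 i (by omega) (by omega)
        ·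
          rcases Nat.lt_or_ge i 1536 with h | h
          ·
            exact allRange_spec node_2 i (by omega) (by omega)
          ·
            rcases Nat.lt_or_ge i 2048 with h | h
            ·
              exact allRange_spec node_3 i (by omega) (by omega)
            ·
              exact allRange_spec node_4 i (by omega) (by omega)
      ·
        rcases Nat.lt_or_ge i 3584 with h | h
        ·
          rcases Nat.lt_or_ge i 3072 with h | h
          ·
            exact allRange_spec node_5 i (by omega) (by omega)
          ·
            exact allRange_spec node_6 i (by omega) (by omega)
        ·
          rcases Nat.lt_or_ge i 4096 with h | h
          ·
            exact allRange_spec node_7 i (by omega) (by omega)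
          ·
            rcases Nat.lt_or_ge i 4608 with h | h
            ·
              exact allRange_spec node_8 i (by omega) (by omega)
            ·
              exact allRange_spec node_9 i (by omega) (by omega)
    ·
      rcases Nat.lt_or_ge i 7680 with h | h
      ·
        rcases Nat.lt_or_ge i 6144 with h | h
        ·
          rcases Nat.lt_or_ge i 5632 with h | h
          ·
            exact allRange_spec node_10 i (by omega) (by omega)
          ·
            exact allRange_spec node_11 i (by omega) (by omega)
        ·
          rcases Nat.lt_or_ge i 6656 with h | h
          ·
            exact allRange_spec node_12 i (by omega) (by omega)
          ·
            rcases Nat.lt_or_ge i 7168 with h | h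
            ·
              exact allRange_spec node_13 i (by omega) (by omega)
            ·
              exact allRange_spec node_14 i (by omega) (by omega)
      ·
        rcases Nat.lt_or_ge i 9216 with h | h
        ·
          rcases Nat.lt_or_ge i 8192 with h | h
          ·
            exact allRange_spec node_15 i (by omega) (by omega)
          ·
            rcases Nat.lt_or_ge i 8704 with h | h
            ·
              exact allRange_spec node_16 i (by omega) (by omega)
            ·
              exact allRange_spec node_17 i (by omega) (by omega)
        ·
          rcases Nat.lt_or_ge i 9728 with h | h
          ·
            exact allRange_spec node_18 i (by omega) (by omega)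
          ·
            rcases Nat.lt_or_ge i 10240 with h | h
            ·
              exact allRange_spec node_19 i (by omega) (by omega)
            ·
              exact allRange_spec node_20 i (by omega) (by omega)
  ·
    rcases Nat.lt_or_ge i 15872 with h | h
    ·
      rcases Nat.lt_or_ge i 13312 with h | h
      ·
        rcases Nat.lt_or_ge i 11776 with h | h
        ·
          rcases Nat.lt_or_ge i 11264 with h | h
          ·
            exact allRange_spec node_21 i (by omega) (by omega)
          ·
            exact allRange_spec node_22 i (by omega) (by omega)
        ·
          rcases Nat.lt_or_ge i 12288 with h | h
          ·
            exact allRange_spec node_23 i (by omega) (by omega)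
          ·
            rcases Nat.lt_or_ge i 12800 with h | h
            ·
              exact allRange_spec node_24 i (by omega) (by omega)
            ·
              exact allRange_spec node_25 i (by omega) (by omega)
      ·
        rcases Nat.lt_or_ge i 14336 with h | h
        ·
          rcases Nat.lt_or_ge i 13824 with h | h
          ·
            exact allRange_spec node_26 i (by omega) (by omega)
          ·
            exact allRange_spec node_27 i (by omega) (by omega)
        ·
          rcases Nat.lt_or_ge i 14848 with h | h
          ·
            exact allRange_spec node_28 i (by omega) (by omega)
          ·
            rcases Nat.lt_or_ge i 15360 with h | h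
            ·
              exact allRange_spec node_29 i (by omega) (by omega)
            ·
              exact allRange_spec node_30 i (by omega) (by omega)
    ·
      rcases Nat.lt_or_ge i 18432 with h | h
      ·
        rcases Nat.lt_or_ge i 16896 with h | h
        ·
          rcases Nat.lt_or_ge i 16384 with h | h
          ·
            exact allRange_spec node_31 i (by omega) (by omega)
          ·
            exact allRange_spec node_32 i (by omega) (by omega)
        ·
          rcases Nat.lt_or_ge i 17408 with h | h
          ·
            exact allRange_spec node_33 i (by omega) (by omega)
          ·
            rcases Nat.lt_or_ge i 17920 with h | h
            ·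
              exact allRange_spec node_34 i (by omega) (by omega)
            ·
              exact allRange_spec node_35 i (by omega) (by omega)
      ·
        rcases Nat.lt_or_ge i 19968 with h | h
        ·
          rcases Nat.lt_or_ge i 18944 with h | h
          ·
            exact allRange_spec node_36 i (by omega) (by omega)
          ·
            rcases Nat.lt_or_ge i 19456 with h | h
            ·
              exact allRange_spec node_37 i (by omega) (by omega)
            ·
              exact allRange_spec node_38 i (by omega) (by omega)
        ·
          rcases Nat.lt_or_ge i 20480 with h | h
          ·
            exact allRange_spec node_39 i (by omega) (by omega)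
          ·
            rcases Nat.lt_or_ge i 20992 with h | h
            ·
              exact allRange_spec node_40 i (by omega) (by omega)
            ·
              exact allRange_spec node_41 i (by omega) (by omega)

end Cfsg.Agent.CosetEnum.He.Cen
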