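import Cfsg.Agent.SporB.He.Cen.Perm0

set_option autoImplicit false

namespace Cfsg.Agent.CosetEnum.He.Cen

theorem perm : ∀ i < 2058, permCheck i = true := by
  intro i hi
  rcases Nat.lt_or_ge i 1024 with h | h
  ·
    rcases Nat.lt_or_ge i 512 with h | h
    ·
      rcases Nat.lt_or_ge i 256 with h | h
      ·
        exact allRange_spec perm_0 i (by omega) (by omega)
      ·
        exact allRange_spec perm_1 i (by omega) (by omega)
    ·
      rcases Nat.lt_or_ge i 768 with h | h
      ·
        exact allRange_spec perm_2 i (by omega) (by omega)
      ·
        exact allRange_spec perm_3 i (by omega) (by omega)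
  ·
    rcases Nat.lt_or_ge i 1536 with h | h
    ·
      rcases Nat.lt_or_ge i 1280 with h | h
      ·
        exact allRange_spec perm_4 i (by omega) (by omega)
      ·
        exact allRange_spec perm_5 i (by omega) (by omega)
    ·
      rcases Nat.lt_or_ge i 1792 with h | h
      ·
        exact allRange_spec perm_6 i (by omega) (by omega)
      ·
        rcases Nat.lt_or_ge i 2048 with h | h
        ·
          exact allRange_spec perm_7 i (by omega) (by omega)
        ·
          exact allRange_spec perm_8 i (by omega) (by omega)

end Cfsg.Agent.CosetEnum.He.Cen
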