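import Cfsg.Agent.SporB.He.Cen.Count
import Cfsg.Agent.SporB.He.Cen.Node
import Cfsg.Agent.SporB.He.Cen.Perm
import Cfsg.Agent.SporB.He.Cen.Model
import Cfsg.Agent.Lib.CosetEnum.BaseStab

/-!
The centraliser of `d` in `He` is the centraliser of a transvection in `SL₅(2)`.
-/

set_option autoImplicit false
set_option maxRecDepth 100000

namespace Cfsg.Agent.CosetEnum.He.Cen

abbrev S5 : Type := Matrix.SpecialLinearGroup (Fin 5) (ZMod 2)

/-- The image of the first generator. -/
def pu : pres.Gp := (evalWord pres.val wordU)⁻¹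

/-- The image of the second generator. -/
def pv : pres.Gp := (evalWord pres.val wordV)⁻¹

/-- The graph of the isomorphism. -/
def graph : Subgroup (S5 × pres.Gp) := Subgroup.closure {(su, pu), (sv, pv)}

theorem hom_pu (i : Fin Rep.tbl.n) : ((rep.hom nodup pu i : Fin Rep.tbl.n) : ℕ) = up i := by
  rw [pu, map_inv, rep.hom_inv_apply nodup (by decide) i]
  have h := perm i i.2
  simp only [permCheck, Bool.and_eq_true] at h
  exact Nat.eq_of_beq_eq_true h.1.1.1

theorem hom_pv (i : Fin Rep.tbl.n) : ((rep.hom nodup pv i : Fin Rep.tbl.n) : ℕ) = vp i := by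
  rw [pv, map_inv, rep.hom_inv_apply nodup (by decide) i]
  have h := perm i i.2
  simp only [permCheck, Bool.and_eq_true] at h
  exact Nat.eq_of_beq_eq_true h.1.1.2

/-- The base point with a given number. -/
def bpt (j : Fin 4) : Fin Rep.tbl.n := ⟨base.getD j 0, by
  fin_cases j <;> decide⟩

theorem node_edge {k : ℕ} (hk : k < 21504) :
    (nu k < 21504 ∧ mat (code (nu k)) = rowsMat rowsU * mat (code k) ∧
      ∀ j < 4, up (pnt k j) = pnt (nu k) j) ∧
    (nv k < 21504 ∧ mat (code (nv k)) = rowsMat rowsV * mat (code k) ∧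
      ∀ j < 4, vp (pnt k j) = pnt (nv k) j) := by
  have h := node k hk
  simp only [nodeCheck, Bool.and_eq_true] at h
  obtain ⟨⟨⟨⟨⟨⟨⟨h1, h2⟩, hr⟩, hp⟩, -⟩, -⟩, -⟩, -⟩ := h
  refine ⟨⟨Nat.le_of_ble_eq_true h1, mat_mul fun i hi => ?_, fun j hj => ?_⟩,
    ⟨Nat.le_of_ble_eq_true h2, mat_mul fun i hi => ?_, fun j hj => ?_⟩⟩
  · have := allRange_spec hr i (Nat.zero_le _) (by omega)
    rw [Bool.and_eq_true] at this
    exact Nat.eq_of_beq_eq_true this.1
  · have := allRange_spec hp j (Nat.zero_le _) (by omega)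
    rw [Bool.and_eq_true] at this
    exact Nat.eq_of_beq_eq_true this.1
  · have := allRange_spec hr i (Nat.zero_le _) (by omega)
    rw [Bool.and_eq_true] at this
    exact Nat.eq_of_beq_eq_true this.2
  · have := allRange_spec hp j (Nat.zero_le _) (by omega)
    rw [Bool.and_eq_true] at this
    exact Nat.eq_of_beq_eq_true this.2

theorem node_par {k : ℕ} (hk : k < 21504) (h0 : k ≠ 0) :
    parx.get 16 k / 2 < k ∧
    (nu (parx.get 16 k / 2) = k ∨ nv (parx.get 16 k / 2) = k) ∧
    key (code k) ≠ key (code 0) ∧ allRange (fun j => Nat.beq (pnt k j) (pnt 0 j)) 0 4 = false := by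
  have h := node k hk
  simp only [nodeCheck, Bool.and_eq_true, forceNat_eq] at h
  obtain ⟨⟨⟨⟨-, hp⟩, -⟩, -⟩, -⟩ := h
  have hb : Nat.beq k 0 = false := by
    cases hc : Nat.beq k 0 with
    | false => rfl
    | true => exact absurd (Nat.eq_of_beq_eq_true hc) h0
  rw [hb, cond_false] at hp
  simp only [Bool.and_eq_true, Bool.not_eq_true'] at hp
  obtain ⟨⟨⟨h1, h2⟩, h3⟩, h4⟩ := hp
  refine ⟨Nat.le_of_ble_eq_true h1, ?_, fun e => ?_, h4⟩
  · cases hm : Nat.beq (parx.get 16 k % 2) 0 with
    | true => rw [hm, cond_true] at h2; exact Or.inl (Nat.eq_of_beq_eq_true h2)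
    | false => rw [hm, cond_false] at h2; exact Or.inr (Nat.eq_of_beq_eq_true h2)
  · rw [e, Nat.beq_refl] at h3; exact Bool.noConfusion h3

theorem mat_zero : mat (code 0) = 1 := by
  ext i j
  show toF ((row (code 0) i).testBit j) = _
  rw [Nat.eq_of_beq_eq_true (allRange_spec code_one i (Nat.zero_le _) (by omega)),
    Nat.testBit_two_pow, Matrix.one_apply]
  rcases eq_or_ne i j with rfl | h
  · simp [toF]
  · have h' : ¬ (i : ℕ) = j := fun e => h (Fin.ext e)
    simp [toF, h, h']

theorem pnt_zero (j : Fin 4) : pnt 0 j = base.getD j 0 :=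
  Nat.eq_of_beq_eq_true (allRange_spec base_ok j (Nat.zero_le _) (by omega))

/-- Nodes describe elements of the graph. -/
theorem graph_node {p : S5 × pres.Gp} (hp : p ∈ graph) :
    ∃ k < 21504, mat (code k) = (p.1 : Matrix (Fin 5) (Fin 5) (ZMod 2)) ∧
      ∀ j : Fin 4, ((rep.hom nodup p.2 (bpt j) : Fin Rep.tbl.n) : ℕ) = pnt k j := by
  haveI := He.finite
  haveI : Finite (S5 × pres.Gp) := inferInstance
  rw [graph, ← Subgroup.mem_toSubmonoid, Subgroup.closure_toSubmonoid_of_finite] at hp
  induction hp using Submonoid.closure_induction_left with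
  | one =>
    refine ⟨0, by omega, mat_zero, fun j => ?_⟩
    rw [pnt_zero, Prod.snd_one, map_one]
    rfl
  | mul_left x hx y _ ih =>
    obtain ⟨k, hk, hm, ht⟩ := ih
    obtain ⟨⟨a1, a2, a3⟩, ⟨b1, b2, b3⟩⟩ := node_edge hk
    rcases hx with rfl | rfl
    · refine ⟨nu k, a1, ?_, fun j => ?_⟩
      · rw [a2, hm]; rfl
      · rw [Prod.snd_mul, map_mul, Equiv.Perm.mul_apply, hom_pu, ht, a3 j j.2]
    · refine ⟨nv k, b1, ?_, fun j => ?_⟩
      · rw [b2, hm]; rfl
      · rw [Prod.snd_mul, map_mul, Equiv.Perm.mul_apply, hom_pv, ht, b3 j j.2]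

theorem eq_one_of_bpt {g : pres.Gp} (h : ∀ j, rep.hom nodup g (bpt j) = bpt j) : g = 1 := by
  haveI := He.finite
  refine rep.eq_one_of_base nodup Rep.slp_ok Rep.levels_ok
    (by rw [card_eq.1, Rep.levels_prod]) card_eq.2 ?_
  intro L hL i hi
  have hb : L.b ∈ base := by
    have : L.b ∈ Rep.levels.map Level.b := List.mem_map_of_mem hL
    rwa [show Rep.levels.map Level.b = base by decide +kernel] at this
  obtain ⟨j, hj, hjb⟩ := List.getElem_of_mem hb
  have e : i = bpt ⟨j, hj⟩ := by
    apply Fin.ext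
    show (i : ℕ) = base.getD j 0
    rw [List.getD_eq_getElem _ _ hj, hi, hjb]
  rw [e]
  exact h _

theorem snd_one {p : S5 × pres.Gp} (hp : p ∈ graph) (h : p.1 = 1) : p.2 = 1 := by
  obtain ⟨k, hk, hm, ht⟩ := graph_node hp
  have h0 : k = 0 := by
    by_contra h0
    refine (node_par hk h0).2.2.1 (key_of_mat ?_)
    rw [hm, h, mat_zero]
    rfl
  subst h0
  refine eq_one_of_bpt fun j => Fin.ext ?_
  rw [ht, pnt_zero]
  rfl

theorem fst_one {p : S5 × pres.Gp} (hp : p ∈ graph) (h : p.2 = 1) : p.1 = 1 := by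
  obtain ⟨k, hk, hm, ht⟩ := graph_node hp
  have h0 : k = 0 := by
    by_contra h0
    have e : ∀ j : Fin 4, Nat.beq (pnt k j) (pnt 0 j) = true := fun j => by
      have he : pnt k j = pnt 0 j := by
        rw [← ht j, h, map_one, pnt_zero]
        rfl
      rw [he]
      exact Nat.beq_refl _
    have hne := (node_par hk h0).2.2.2
    have h01 : allRange (fun j => Nat.beq (pnt k j) (pnt 0 j)) 0 4 = true := by
      have e0 := e 0; have e1 := e 1; have e2 := e 2; have e3 := e 3
      simp only [Fin.val_zero, Fin.val_one, Fin.val_two] at e0 e1 e2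
      show (Bool.rec (motive := fun _ => Bool) false (Bool.rec (motive := fun _ => Bool) false
        (Bool.rec (motive := fun _ => Bool) false (Bool.rec (motive := fun _ => Bool) false true
          (Nat.beq (pnt k 3) (pnt 0 3))) (Nat.beq (pnt k 2) (pnt 0 2)))
          (Nat.beq (pnt k 1) (pnt 0 1))) (Nat.beq (pnt k 0) (pnt 0 0)) : Bool) = true
      rw [show Nat.beq (pnt k 3) (pnt 0 3) = true from e3, e2, e1, e0]
    rw [h01] at hne
    exact Bool.noConfusion hne
  subst h0
  exact Subtype.ext (hm.symm.trans mat_zero)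

theorem su_comm (s : S5) (hs : (s : Matrix (Fin 5) (Fin 5) (ZMod 2)) = Matrix.transvection 0 1 1) :
    su ∈ Subgroup.centralizer ({s} : Set S5) ∧ sv ∈ Subgroup.centralizer ({s} : Set S5) := by
  constructor <;> rw [Subgroup.mem_centralizer_singleton_iff] <;> apply Subtype.ext
  · show rowsMat rowsU * (s : Matrix (Fin 5) (Fin 5) (ZMod 2)) = _ * rowsMat rowsU
    rw [hs]; exact comm_ok.1
  · show rowsMat rowsV * (s : Matrix (Fin 5) (Fin 5) (ZMod 2)) = _ * rowsMat rowsV
    rw [hs]; exact comm_ok.2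

theorem pu_comm : pu ∈ Subgroup.centralizer ({z} : Set pres.Gp) ∧
    pv ∈ Subgroup.centralizer ({z} : Set pres.Gp) := by
  constructor <;> rw [Subgroup.mem_centralizer_singleton_iff] <;> apply card_eq.2 <;>
    apply Equiv.ext <;> intro i <;> apply Fin.ext <;>
    rw [map_mul, map_mul, Equiv.Perm.mul_apply, Equiv.Perm.mul_apply]
  · rw [hom_pu, z, rep.gen_apply nodup (by decide), rep.gen_apply nodup (by decide), hom_pu]
    have h := perm i i.2
    simp only [permCheck, Bool.and_eq_true] at h
    exact (Nat.eq_of_beq_eq_true h.1.2).symm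
  · rw [hom_pv, z, rep.gen_apply nodup (by decide), rep.gen_apply nodup (by decide), hom_pv]
    have h := perm i i.2
    simp only [permCheck, Bool.and_eq_true] at h
    exact (Nat.eq_of_beq_eq_true h.2).symm

theorem node_reached : ∀ k < 21504, ∃ p ∈ graph,
    (p.1 : Matrix (Fin 5) (Fin 5) (ZMod 2)) = mat (code k) := by
  intro k
  induction k using Nat.strong_induction_on with
  | _ k ih =>
    intro hk
    rcases eq_or_ne k 0 with rfl | h0
    · exact ⟨1, one_mem _, mat_zero.symm⟩
    obtain ⟨h1, h2, -, -⟩ := node_par hk h0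
    obtain ⟨p, hp, hpm⟩ := ih _ h1 (by omega)
    obtain ⟨⟨-, a2, -⟩, ⟨-, b2, -⟩⟩ := node_edge (show parx.get 16 k / 2 < 21504 by omega)
    rcases h2 with e | e
    · refine ⟨(su, pu) * p, mul_mem (Subgroup.subset_closure (Or.inl rfl)) hp, ?_⟩
      rw [e] at a2
      rw [a2, ← hpm]
      rfl
    · refine ⟨(sv, pv) * p, mul_mem (Subgroup.subset_closure (Or.inr rfl)) hp, ?_⟩
      rw [e] at b2
      rw [b2, ← hpm]
      rfl

theorem code_inj {k l : ℕ} (hk : k < 21504) (hl : l < 21504) (h : mat (code k) = mat (code l)) :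
    k = l := by
  have hkey := key_of_mat h
  have hsrt : ∀ k < 21504, rkx.get 16 k < 21504 ∧ srtx.get 16 (rkx.get 16 k) = k := by
    intro k hk
    have h := node k hk
    simp only [nodeCheck, Bool.and_eq_true] at h
    exact ⟨Nat.le_of_ble_eq_true h.1.1.2, Nat.eq_of_beq_eq_true h.1.2⟩
  have hmono : ∀ i, i < 21504 → ∀ j, j < i →
      key (code (srtx.get 16 j)) < key (code (srtx.get 16 i)) := by
    intro i
    induction i with
    | zero => intros; omega
    | succ i ih =>
      intro hi j hj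
      have h := node (i + 1) hi
      simp only [nodeCheck, Bool.and_eq_true] at h
      have h2 := h.2
      rw [show Nat.beq (i + 1) 0 = false from rfl, cond_false] at h2
      have h1 : key (code (srtx.get 16 i)) < key (code (srtx.get 16 (i + 1))) :=
        Nat.le_of_ble_eq_true h2
      rcases Nat.lt_succ_iff_lt_or_eq.mp hj with h3 | rfl
      · exact (ih (by omega) j h3).trans h1
      · exact h1
  obtain ⟨a1, a2⟩ := hsrt k hk
  obtain ⟨b1, b2⟩ := hsrt l hl
  rcases lt_trichotomy (rkx.get 16 k) (rkx.get 16 l) with h' | h' | h'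
  · have := hmono _ b1 _ h'; rw [a2, b2] at this; omega
  · rw [← a2, h', b2]
  · have := hmono _ a1 _ h'; rw [a2, b2] at this; omega

/-- The first projection. -/
def toS : graph →* S5 := (MonoidHom.fst S5 pres.Gp).comp graph.subtype

/-- The second projection. -/
def toHe : graph →* pres.Gp := (MonoidHom.snd S5 pres.Gp).comp graph.subtype

theorem toS_inj : Function.Injective toS := by
  rw [injective_iff_map_eq_one]
  intro p hp
  exact Subtype.ext (Prod.ext hp (snd_one p.2 hp))

theorem toHe_inj : Function.Injective toHe := by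
  rw [injective_iff_map_eq_one]
  intro p hp
  exact Subtype.ext (Prod.ext (fst_one p.2 hp) hp)

theorem centralizer_iso (s : S5) (hs : (s : Matrix (Fin 5) (Fin 5) (ZMod 2)) = Matrix.transvection 0 1 1) :
    Nonempty (↥(Subgroup.centralizer ({z} : Set pres.Gp)) ≃* ↥(Subgroup.centralizer ({s} : Set S5))) := by
  haveI := He.finite
  have hS : toS.range ≤ Subgroup.centralizer ({s} : Set S5) := by
    rw [toS, MonoidHom.range_comp, Subgroup.range_subtype, graph, MonoidHom.map_closure,
      Subgroup.closure_le]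
    rintro _ ⟨p, hp, rfl⟩
    rcases hp with rfl | rfl
    exacts [(su_comm s hs).1, (su_comm s hs).2]
  have hH : toHe.range ≤ Subgroup.centralizer ({z} : Set pres.Gp) := by
    rw [toHe, MonoidHom.range_comp, Subgroup.range_subtype, graph, MonoidHom.map_closure,
      Subgroup.closure_le]
    rintro _ ⟨p, hp, rfl⟩
    rcases hp with rfl | rfl
    exacts [pu_comm.1, pu_comm.2]
  have hg : 21504 ≤ Nat.card graph := by
    choose p hp hpm using node_reached
    refine le_of_eq_of_le (Nat.card_fin 21504).symm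
      (Nat.card_le_card_of_injective (fun k : Fin 21504 => (⟨p k k.2, hp k k.2⟩ : graph)) ?_)
    intro a b h
    apply Fin.ext
    refine code_inj a.2 b.2 ?_
    rw [← hpm a a.2, ← hpm b b.2]
    exact congrArg (fun q : graph => ((q : S5 × pres.Gp).1 : Matrix (Fin 5) (Fin 5) (ZMod 2))) h
  have cS := SporB.SL5.card_centralizer s hs
  have eS : Nat.card toS.range = Nat.card graph :=
    (Nat.card_congr (MonoidHom.ofInjective toS_inj).toEquiv).symm
  have eH : Nat.card toHe.range = Nat.card graph :=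
    (Nat.card_congr (MonoidHom.ofInjective toHe_inj).toEquiv).symm
  have lS : toS.range = Subgroup.centralizer ({s} : Set S5) :=
    Subgroup.eq_of_le_of_card_ge hS (by rw [eS, cS]; exact hg)
  have lH : toHe.range = Subgroup.centralizer ({z} : Set pres.Gp) :=
    Subgroup.eq_of_le_of_card_ge hH (by rw [eH]; exact centralizer_card_le.trans hg)
  exact ⟨(MulEquiv.subgroupCongr lH).symm.trans ((MonoidHom.ofInjective toHe_inj).symm.trans
    ((MonoidHom.ofInjective toS_inj).trans (MulEquiv.subgroupCongr lS)))⟩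

theorem orderOf_z : orderOf z = 2 := by
  haveI : Fact (Nat.Prime 2) := ⟨Nat.prime_two⟩
  refine orderOf_eq_prime ?_ ?_
  · rw [pow_two, z, InvPres.val, letterVal_of_lt _ _ (by decide)]
    exact pres.sq_val _
  · intro h
    have h2 := rep.gen_apply nodup (l := 3) (by decide) (⟨2, by decide⟩ : Fin Rep.tbl.n)
    rw [show pres.val 3 = z from rfl, h, map_one] at h2
    revert h2
    show (2 : ℕ) = Rep.tbl.at' 2 3 → False
    decide +kernel

end Cfsg.Agent.CosetEnum.He.Cen
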