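import Cfsg.Agent.SporB.He.Cen.Defs

set_option autoImplicit false
set_option maxRecDepth 100000

namespace Cfsg.Agent.CosetEnum.He.Cen

theorem conj_8 : allRange conjCheck 2048 256 = true := by decide +kernel

theorem conj_9 : allRange conjCheck 2304 256 = true := by decide +kernel

theorem conj_10 : allRange conjCheck 2560 256 = true := by decide +kernel

theorem conj_11 : allRange conjCheck 2816 256 = true := by decide +kernel

theorem conj_12 : allRange conjCheck 3072 256 = true := by decide +kernel

theorem conj_13 : allRange conjCheck 3328 256 = true := by decide +kernel

theorem conj_14 : allRange conjCheck 3584 241 = true := by decide +kernel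

end Cfsg.Agent.CosetEnum.He.Cen
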