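import Cfsg.Agent.SporB.He.Cen.Defs

set_option autoImplicit false
set_option maxRecDepth 100000

namespace Cfsg.Agent.CosetEnum.He.Cen

theorem conj_0 : allRange conjCheck 0 256 = true := by decide +kernel

theorem conj_1 : allRange conjCheck 256 256 = true := by decide +kernel

theorem conj_2 : allRange conjCheck 512 256 = true := by decide +kernel

theorem conj_3 : allRange conjCheck 768 256 = true := by decide +kernel

theorem conj_4 : allRange conjCheck 1024 256 = true := by decide +kernel

theorem conj_5 : allRange conjCheck 1280 256 = true := by decide +kernel

theorem conj_6 : allRange conjCheck 1536 256 = true := by decide +kernel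

theorem conj_7 : allRange conjCheck 1792 256 = true := by decide +kernel

end Cfsg.Agent.CosetEnum.He.Cen
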