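import Cfsg.Agent.SporB.He.Cen.Defs

set_option autoImplicit false
set_option maxRecDepth 100000

namespace Cfsg.Agent.CosetEnum.He.Cen

theorem fix_count : countBelow (fun i => Nat.beq (Rep.tbl.at' i 3) i) 2058 = 42 := by decide +kernel

theorem base_ok : allRange (fun j => Nat.beq (pnt 0 j) (base.getD j 0)) 0 4 = true := by decide +kernel

theorem code_one : allRange (fun i => Nat.beq (row (code 0) i) (2 ^ i)) 0 5 = true := by decide +kernel

end Cfsg.Agent.CosetEnum.He.Cen
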