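import Cfsg.Agent.SporB.He.Cen.Conj
import Cfsg.Agent.SporB.He.Cen.Misc
import Cfsg.Agent.SporB.He.Main
import Mathlib.GroupTheory.GroupAction.ConjAct

/-!
The class of `d` in `He` is large: a double count of fixed points.
-/

set_option autoImplicit false
set_option maxRecDepth 100000

namespace Cfsg.Agent.CosetEnum.He.Cen

/-- The involution. -/
def z : pres.Gp := pres.val 3

theorem inv_word (W : List ℕ) : evalWord pres.val W.reverse = (evalWord pres.val W)⁻¹ := by
  induction W with
  | nil => simp [evalWord]
  | cons l W ih =>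
    rw [List.reverse_cons, evalWord_append, ih]
    show _ * (pres.val l * 1) = (pres.val l * evalWord pres.val W)⁻¹
    rw [mul_inv_rev, mul_one]
    congr 1
    symm
    apply inv_eq_of_mul_eq_one_right
    rcases Nat.lt_or_ge l pres.gens.length with h | h
    · rw [InvPres.val, letterVal_of_lt _ _ h]
      exact pres.sq_val _
    · simp [InvPres.val, letterVal, List.getElem?_eq_none h]

theorem conj_letters (i : ℕ) (hi : i < 3825) : ∀ l ∈ conjWord i, l < Rep.tbl.nl := by
  have h := conj i hi
  simp only [conjCheck, Bool.and_eq_true, List.all_eq_true] at h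
  exact fun l hl => Nat.le_of_ble_eq_true (h.1.1 l hl)

theorem conj_isConj (i : ℕ) : IsConj z (evalWord pres.val (conjWord i)) := by
  rw [isConj_iff, conjWord, forceNat_eq, evalWord_append]
  refine ⟨evalWord pres.val (decode 40 (fwx.get 128 i)), ?_⟩
  show _ = _ * (pres.val 3 * evalWord pres.val _)
  rw [inv_word, mul_assoc]
  rfl

theorem key_mono : ∀ i, i < 3825 → ∀ j, j < i → conjKey j < conjKey i := by
  intro i
  induction i with
  | zero => intros; omega
  | succ i ih =>
    intro hi j hj
    have h := conj (i + 1) hi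
    simp only [conjCheck, Bool.and_eq_true] at h
    have h1 : conjKey i < conjKey (i + 1) := by
      have h2 := h.2
      have hne : Nat.beq (i + 1) 0 = false := rfl
      rw [hne, cond_false] at h2
      exact Nat.le_of_ble_eq_true h2
    rcases Nat.lt_succ_iff_lt_or_eq.mp hj with h3 | rfl
    · exact (ih (by omega) j h3).trans h1
    · exact h1

open Classical in
/-- The conjugates of `z`. -/
noncomputable def cls [Fintype pres.Gp] : Finset pres.Gp := Finset.univ.filter fun x => IsConj z x

open Classical in
theorem fix_card [Fintype pres.Gp] {x : pres.Gp} (hx : x ∈ cls) :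
    (Finset.univ.filter fun i : Fin Rep.tbl.n => rep.hom nodup x i = i).card = 42 := by
  rw [cls, Finset.mem_filter] at hx
  obtain ⟨g, rfl⟩ := isConj_iff.mp hx.2
  have e : (Finset.univ.filter fun i : Fin Rep.tbl.n => rep.hom nodup (g * z * g⁻¹) i = i) =
      (Finset.univ.filter fun i : Fin Rep.tbl.n => rep.hom nodup z i = i).map
        (rep.hom nodup g).toEmbedding := by
    ext i
    simp only [Finset.mem_filter, Finset.mem_univ, true_and, Finset.mem_map_equiv]
    rw [map_mul, map_mul, map_inv, Equiv.Perm.mul_apply, Equiv.Perm.mul_apply]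
    exact ⟨fun h => (Equiv.eq_symm_apply _).mpr h, fun h => (Equiv.eq_symm_apply _).mp h⟩
  rw [e, Finset.card_map]
  refine Eq.trans ?_ fix_count
  rw [show (2058 : ℕ) = Rep.tbl.n from rfl, ← ncard_fin_filter, ← Set.ncard_coe_finset]
  congr 1
  ext i
  simp only [Finset.coe_filter, Finset.mem_univ, true_and, Set.mem_ofPred_eq]
  rw [Fin.ext_iff, z, rep.gen_apply nodup (by decide)]
  exact ⟨fun h => h.symm ▸ Nat.beq_refl _, Nat.eq_of_beq_eq_true⟩

open Classical in
theorem base_count [Fintype pres.Gp] :
    3825 ≤ (cls.filter fun x => rep.hom nodup x rep.base = rep.base).card := by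
  let f : Fin 3825 → pres.Gp := fun i => evalWord pres.val (conjWord i)
  have hval : ∀ (i : Fin 3825) (p : Fin Rep.tbl.n),
      (((rep.hom nodup (f i))⁻¹ p : Fin Rep.tbl.n) : ℕ) = Rep.tbl.run (conjWord i) p :=
    fun i p => rep.hom_inv_apply nodup (conj_letters i i.2) p
  have hf : Function.Injective f := by
    intro i j h
    have hk : conjKey i = conjKey j := by
      have e : ∀ p : Fin Rep.tbl.n,
          Rep.tbl.run (conjWord i) p = Rep.tbl.run (conjWord j) p := fun p => by
        rw [← hval, ← hval, h]
      simp only [conjKey]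
      rw [show Rep.tbl.run (conjWord i) 0 = Rep.tbl.run (conjWord j) 0 from e ⟨0, by decide⟩,
        show Rep.tbl.run (conjWord i) 1 = Rep.tbl.run (conjWord j) 1 from e ⟨1, by decide⟩,
        show Rep.tbl.run (conjWord i) 15 = Rep.tbl.run (conjWord j) 15 from e ⟨15, by decide⟩,
        show Rep.tbl.run (conjWord i) 34 = Rep.tbl.run (conjWord j) 34 from e ⟨34, by decide⟩]
    apply Fin.ext
    rcases lt_trichotomy (i : ℕ) j with h' | h' | h'
    · have := key_mono j j.2 i h'; omega
    · exact h'
    · have := key_mono i i.2 j h'; omega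
  calc 3825 = (Finset.univ.map ⟨f, hf⟩).card := by simp
    _ ≤ _ := by
      refine Finset.card_le_card fun x hx => ?_
      obtain ⟨i, -, rfl⟩ := Finset.mem_map.mp hx
      rw [Finset.mem_filter, cls, Finset.mem_filter]
      refine ⟨⟨Finset.mem_univ _, conj_isConj i⟩, ?_⟩
      have h := conj i i.2
      simp only [conjCheck, Bool.and_eq_true] at h
      have h0 : (rep.hom nodup (f i))⁻¹ rep.base = rep.base := by
        apply Fin.ext
        rw [hval]
        exact Nat.eq_of_beq_eq_true h.1.2
      rw [Equiv.Perm.inv_eq_iff_eq] at h0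
      exact h0.symm

open Classical in
theorem class_card [Fintype pres.Gp] : 187425 ≤ cls.card := by
  have hsum := Finset.sum_card_bipartiteAbove_eq_sum_card_bipartiteBelow
    (r := fun (x : pres.Gp) (i : Fin Rep.tbl.n) => rep.hom nodup x i = i)
    (s := cls) (t := (Finset.univ : Finset (Fin Rep.tbl.n)))
  have hl : ∀ x ∈ cls, (Finset.bipartiteAbove (fun (x : pres.Gp) (i : Fin Rep.tbl.n) =>
      rep.hom nodup x i = i) Finset.univ x).card = 42 := fun x hx => fix_card hx
  rw [Finset.sum_congr rfl hl, Finset.sum_const, smul_eq_mul] at hsum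
  have hr : ∀ i ∈ (Finset.univ : Finset (Fin Rep.tbl.n)), 3825 ≤
      (Finset.bipartiteBelow (fun (x : pres.Gp) (i : Fin Rep.tbl.n) =>
        rep.hom nodup x i = i) cls i).card := by
    intro i _
    obtain ⟨g, hg⟩ := rep.transitive nodup Rep.descend i
    refine base_count.trans (Finset.card_le_card_of_injOn (fun x => g * x * g⁻¹) ?_
      (fun a _ b _ h => by simpa using h))
    intro x hx
    rw [Finset.mem_coe, Finset.mem_filter] at hx
    rw [Finset.mem_coe, Finset.mem_bipartiteBelow]
    have hx1 : IsConj z x := (Finset.mem_filter.mp hx.1).2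
    refine ⟨Finset.mem_filter.mpr ⟨Finset.mem_univ _, hx1.trans (isConj_iff.mpr ⟨g, rfl⟩)⟩, ?_⟩
    rw [map_mul, map_mul, map_inv, Equiv.Perm.mul_apply, Equiv.Perm.mul_apply, ← hg,
      ← Equiv.Perm.mul_apply (rep.hom nodup g)⁻¹, inv_mul_cancel, Equiv.Perm.one_apply, hx.2]
  have h2 := Finset.card_nsmul_le_sum _ _ _ hr
  rw [Finset.card_univ, Fintype.card_fin, smul_eq_mul] at h2
  have hn : Rep.tbl.n = 2058 := rfl
  have h3 := h2.trans hsum.ge
  rw [Nat.mul_comm Rep.tbl.n] at h3
  omega

theorem centralizer_card_le : Nat.card (Subgroup.centralizer ({z} : Set pres.Gp)) ≤ 21504 := by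
  haveI := He.finite
  haveI : Fintype pres.Gp := Fintype.ofFinite _
  have h := Subgroup.card_mul_index (MulAction.stabilizer (ConjAct pres.Gp) z)
  rw [MulAction.index_stabilizer] at h
  have hcls : cls.card ≤ (MulAction.orbit (ConjAct pres.Gp) z).ncard := by
    rw [← Set.ncard_coe_finset]
    refine Set.ncard_le_ncard ?_
    intro x hx
    rw [cls, Finset.coe_filter] at hx
    exact ConjAct.mem_orbit_conjAct.mpr hx.2.symm
  have hc : Nat.card (MulAction.stabilizer (ConjAct pres.Gp) z) =
      Nat.card (Subgroup.centralizer ({z} : Set pres.Gp)) := by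
    rw [ConjAct.stabilizer_eq_centralizer]
    rfl
  have hG : Nat.card (ConjAct pres.Gp) = 4030387200 := card_eq.1
  rw [hG, hc] at h
  have := class_card
  nlinarith

end Cfsg.Agent.CosetEnum.He.Cen
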