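import Cfsg.Agent.SporB.He.Cen.Data
import Cfsg.Agent.SporB.He.Rep.Data

/-!
Packed data for the centraliser of an involution of `He`.
-/

set_option autoImplicit false
set_option maxRecDepth 100000

namespace Cfsg.Agent.CosetEnum.He.Cen

/-- The code of a node. -/
noncomputable def code (k : ℕ) : ℕ := codex.get 32 k

/-- A row of a code. -/
def row (c i : ℕ) : ℕ := Nat.land (Nat.shiftRight c (5 * i)) 31

/-- The key of a code, from its rows. -/
def key (c : ℕ) : ℕ := row c 0 + 32 * (row c 1 + 32 * (row c 2 + 32 * (row c 3 + 32 * row c 4)))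

/-- A row of a product. -/
def rowSum (g c : ℕ) : ℕ → ℕ
  | 0 => 0
  | k + 1 => bif Nat.testBit g k then Nat.xor (rowSum g c k) (row c k) else rowSum g c k

/-- The image of a base point under a node. -/
noncomputable def pnt (k j : ℕ) : ℕ := Nat.land (Nat.shiftRight (tpx.get 64 k) (16 * j)) 65535

/-- The base. -/
def base : List ℕ := [0, 1, 15, 34]

noncomputable def up (i : ℕ) : ℕ := upx.get 16 i
noncomputable def vp (i : ℕ) : ℕ := vpx.get 16 i
noncomputable def nu (k : ℕ) : ℕ := nux.get 16 k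
noncomputable def nv (k : ℕ) : ℕ := nvx.get 16 k

/-- The check of a node. -/
noncomputable def nodeCheck (k : ℕ) : Bool :=
  Nat.blt (nu k) 21504 && Nat.blt (nv k) 21504 &&
  allRange (fun i => Nat.beq (row (code (nu k)) i) (rowSum (rowsU.getD i 0) (code k) 5) &&
    Nat.beq (row (code (nv k)) i) (rowSum (rowsV.getD i 0) (code k) 5)) 0 5 &&
  allRange (fun j => Nat.beq (up (pnt k j)) (pnt (nu k) j) &&
    Nat.beq (vp (pnt k j)) (pnt (nv k) j)) 0 4 &&
  forceNat (parx.get 16 k) (fun p =>
    (bif Nat.beq k 0 then true else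
      Nat.blt (p / 2) k && Nat.beq (bif Nat.beq (p % 2) 0 then nu (p / 2) else nv (p / 2)) k &&
      !(Nat.beq (key (code k)) (key (code 0))) && !(allRange (fun j => Nat.beq (pnt k j) (pnt 0 j)) 0 4))) &&
  Nat.blt (rkx.get 16 k) 21504 && Nat.beq (srtx.get 16 (rkx.get 16 k)) k &&
  (bif Nat.beq k 0 then true else
    Nat.blt (key (code (srtx.get 16 (k - 1)))) (key (code (srtx.get 16 k))))

/-- The check of a point. -/
noncomputable def permCheck (i : ℕ) : Bool :=
  Nat.beq (Rep.tbl.run wordU i) (up i) && Nat.beq (Rep.tbl.run wordV i) (vp i) &&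
  Nat.beq (Rep.tbl.at' (up i) 3) (up (Rep.tbl.at' i 3)) &&
  Nat.beq (Rep.tbl.at' (vp i) 3) (vp (Rep.tbl.at' i 3))

/-- Decode a word. -/
def decode : ℕ → ℕ → List ℕ
  | 0, _ => []
  | fuel + 1, v => bif Nat.ble v 1 then [] else (v % 8) :: decode fuel (v / 8)

/-- A conjugate of `d` as a word. -/
noncomputable def conjWord (i : ℕ) : List ℕ :=
  forceNat (fwx.get 128 i) fun v => decode 40 v ++ 3 :: (decode 40 v).reverse

/-- The images of the base under a conjugate, packed. -/
noncomputable def conjKey (i : ℕ) : ℕ :=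
  Rep.tbl.run (conjWord i) 0 + 65536 * (Rep.tbl.run (conjWord i) 1 +
    65536 * (Rep.tbl.run (conjWord i) 15 + 65536 * Rep.tbl.run (conjWord i) 34))

/-- The check of a conjugate. -/
noncomputable def conjCheck (i : ℕ) : Bool :=
  (conjWord i).all (fun l => Nat.blt l 7) && Nat.beq (Rep.tbl.run (conjWord i) 0) 0 &&
  (bif Nat.beq i 0 then true else Nat.blt (conjKey (i - 1)) (conjKey i))

end Cfsg.Agent.CosetEnum.He.Cen
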