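import Cfsg.Agent.SporB.He.Cen.Defs

set_option autoImplicit false
set_option maxRecDepth 100000

namespace Cfsg.Agent.CosetEnum.He.Cen

theorem node_0 : allRange nodeCheck 0 512 = true := by decide +kernel

theorem node_1 : allRange nodeCheck 512 512 = true := by decide +kernel

theorem node_2 : allRange nodeCheck 1024 512 = true := by decide +kernel

theorem node_3 : allRange nodeCheck 1536 512 = true := by decide +kernel

theorem node_4 : allRange nodeCheck 2048 512 = true := by decide +kernel

theorem node_5 : allRange nodeCheck 2560 512 = true := by decide +kernel

theorem node_6 : allRange nodeCheck 3072 512 = true := by decide +kernel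

theorem node_7 : allRange nodeCheck 3584 512 = true := by decide +kernel

theorem node_8 : allRange nodeCheck 4096 512 = true := by decide +kernel

theorem node_9 : allRange nodeCheck 4608 512 = true := by decide +kernel

theorem node_10 : allRange nodeCheck 5120 512 = true := by decide +kernel

end Cfsg.Agent.CosetEnum.He.Cen
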