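import Cfsg.Agent.SporB.He.Cen.Defs

set_option autoImplicit false
set_option maxRecDepth 100000

namespace Cfsg.Agent.CosetEnum.He.Cen

theorem perm_0 : allRange permCheck 0 256 = true := by decide +kernel

theorem perm_1 : allRange permCheck 256 256 = true := by decide +kernel

theorem perm_2 : allRange permCheck 512 256 = true := by decide +kernel

theorem perm_3 : allRange permCheck 768 256 = true := by decide +kernel

theorem perm_4 : allRange permCheck 1024 256 = true := by decide +kernel

theorem perm_5 : allRange permCheck 1280 256 = true := by decide +kernel

theorem perm_6 : allRange permCheck 1536 256 = true := by decide +kernel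

theorem perm_7 : allRange permCheck 1792 256 = true := by decide +kernel

theorem perm_8 : allRange permCheck 2048 10 = true := by decide +kernel

end Cfsg.Agent.CosetEnum.He.Cen
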